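import Cfsg.Agent.Lib.LyType.OneClass
import Mathlib.GroupTheory.SpecificGroups.Alternating.Simple

/-!
# A group with an involution centraliser `2.A11` and two commuting conjugates of it is simple
-/

set_option autoImplicit false
set_option maxRecDepth 100000

namespace CfsgLib.LyStd

open Subgroup CfsgLib.LyType CfsgLib.LyFusion

variable {X : Type*} [Group X] [Finite X] {t : X}

/-- The cover of the alternating group given by the centraliser. -/
theorem exists_cover_cent (ht : orderOf t = 2)
    (hcov : Cfsg.IsNonsplitDoubleCover (centralizer ({t} : Set X)) (alternatingGroup (Fin 11))) :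
    ∃ (π : centralizer ({t} : Set X) →* alternatingGroup (Fin 11)),
      Cover π ⟨t, mem_centralizer_singleton_iff.2 rfl⟩ :=
  exists_cover ((Subgroup.orderOf_coe _).symm.trans ht)
    (mem_center_iff.2 fun z => Subtype.ext (mem_centralizer_singleton_iff.1 z.2)) hcov

/-- A normal subgroup containing `t` and another conjugate commuting with it contains the centraliser. -/
theorem cent_le (ht : orderOf t = 2)
    (hcov : Cfsg.IsNonsplitDoubleCover (centralizer ({t} : Set X)) (alternatingGroup (Fin 11)))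
    {u : X} (hu : orderOf u = 2) (huc : u * t = t * u) (hut : u ≠ t) {N : Subgroup X} [N.Normal]
    (htN : t ∈ N) (huN : u ∈ N) : centralizer ({t} : Set X) ≤ N := by
  obtain ⟨π, hπ⟩ := exists_cover_cent ht hcov
  let uC : centralizer ({t} : Set X) := ⟨u, mem_centralizer_singleton_iff.2 huc⟩
  have : IsSimpleGroup (alternatingGroup (Fin 11)) := alternatingGroup.isSimpleGroup (by simp)
  have : ((N.subgroupOf (centralizer ({t} : Set X))).map π).Normal := Subgroup.Normal.map inferInstance π hπ.surj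
  have htop : (N.subgroupOf (centralizer ({t} : Set X))).map π = ⊤ := by
    rcases Subgroup.Normal.eq_bot_or_eq_top (inferInstance : ((N.subgroupOf (centralizer ({t} : Set X))).map π).Normal) with h | h
    · have h1 : π uC = 1 := (mem_bot).1 (h ▸ mem_map_of_mem π (show uC ∈ N.subgroupOf (centralizer ({t} : Set X)) from huN))
      rcases (hπ.ker _).1 h1 with h2 | h2
      · exact absurd (orderOf_eq_one_iff.2 (congrArg Subtype.val h2 : u = 1)) (by rw [hu]; norm_num)
      · exact absurd (congrArg Subtype.val h2) hut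
    · exact h
  intro x hx
  obtain ⟨y, hy, hyx⟩ : π ⟨x, hx⟩ ∈ (N.subgroupOf (centralizer ({t} : Set X))).map π := htop ▸ mem_top _
  rcases hπ.cases hyx with h | h
  · have : x = (y : X) := congrArg Subtype.val h
    exact this ▸ hy
  · have : x = (y : X) * t := congrArg Subtype.val h
    exact this ▸ mul_mem hy htN

/-- All involutions are conjugate to `t` in any normal subgroup containing the centraliser and a conjugate. -/
theorem conj_in_normal (ht : orderOf t = 2)
    (hcov : Cfsg.IsNonsplitDoubleCover (centralizer ({t} : Set X)) (alternatingGroup (Fin 11)))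
    {N : Subgroup X} (hle : centralizer ({t} : Set X) ≤ N)
    {k : X} (hk : k ∈ N) (hkc : k * t * k⁻¹ * t = t * (k * t * k⁻¹)) (hkt : k * t * k⁻¹ ≠ t)
    {s : X} (hs : orderOf s = 2) (hsN : s ∈ N) : ∃ n ∈ N, n * t * n⁻¹ = s := by
  have := Fact.mk Nat.prime_two
  obtain ⟨S, hS⟩ := exists_sylow_le ht hcov
  obtain ⟨Q, hQ⟩ := (IsPGroup.of_card (p := 2) (n := 1)
    (by rw [Nat.card_zpowers, ← hs]; rw [Subgroup.orderOf_mk, pow_one]) :
    IsPGroup 2 (zpowers (⟨s, hsN⟩ : N))).exists_le_sylow
  obtain ⟨d, hd⟩ := MulAction.exists_smul_eq N Q (S.subtype (hS.trans hle))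
  have hmem : (⟨(d : X) * s * (d : X)⁻¹, mul_mem (mul_mem d.2 hsN) (inv_mem d.2)⟩ : N) ∈
      ((S.subtype (hS.trans hle) : Sylow 2 N) : Subgroup N) := hd ▸ ⟨⟨s, hsN⟩, hQ (mem_zpowers _), rfl⟩
  rw [Sylow.coe_subtype, mem_subgroupOf] at hmem
  by_cases e : (d : X) * s * (d : X)⁻¹ = t
  · refine ⟨(d : X)⁻¹, inv_mem d.2, ?_⟩
    rw [← e]; group
  · obtain ⟨c, hct, hc⟩ := invol_conj_cent ht hcov hkc (mem_centralizer_singleton_iff.1 (hS hmem))
      ((MulEquiv.orderOf_eq (MulAut.conj k) t).trans ht)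
      ((MulEquiv.orderOf_eq (MulAut.conj (d : X)) s).trans hs) hkt e
    refine ⟨(d : X)⁻¹ * c * k, mul_mem (mul_mem (inv_mem d.2) (hle (mem_centralizer_singleton_iff.2 hct))) hk, ?_⟩
    calc (d : X)⁻¹ * c * k * t * ((d : X)⁻¹ * c * k)⁻¹ = (d : X)⁻¹ * (c * (k * t * k⁻¹) * c⁻¹) * d := by group
      _ = s := by rw [hc]; group

variable (ht : orderOf t = 2)
    (hcov : Cfsg.IsNonsplitDoubleCover (centralizer ({t} : Set X)) (alternatingGroup (Fin 11)))
    {g : X} (hgc : g * t * g⁻¹ * t = t * (g * t * g⁻¹)) (hgt : g * t * g⁻¹ ≠ t)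
include ht hcov hgc hgt

/-- All involutions of the group are conjugate to `t`. -/
theorem exists_conj {s : X} (hs : orderOf s = 2) : ∃ n, n * t * n⁻¹ = s :=
  let ⟨n, _, hn⟩ := conj_in_normal ht hcov (le_top : _ ≤ ⊤) (mem_top g) hgc hgt hs (mem_top s)
  ⟨n, hn⟩

/-- A nontrivial normal subgroup is everything. -/
theorem normal_eq_top {N : Subgroup X} [N.Normal] (hN : N ≠ ⊥) : N = ⊤ := by
  have := Fact.mk Nat.prime_two
  have ht1 : t * t = 1 := by rw [← pow_two, ← ht, pow_orderOf_eq_one]
  set u := g * t * g⁻¹ with hu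
  have hu1 : u * u = 1 := by rw [hu, show g * t * g⁻¹ * (g * t * g⁻¹) = g * (t * t) * g⁻¹ by group, ht1]; group
  have hu2 : orderOf u = 2 := (MulEquiv.orderOf_eq (MulAut.conj g) t).trans ht
  have htu1 : t * u ≠ 1 := fun h => hgt (by
    calc u = t * t * u := by rw [ht1, one_mul]
      _ = t := by rw [mul_assoc, h, mul_one])
  have htu2 : orderOf (t * u) = 2 := by
    refine orderOf_eq_prime ?_ htu1
    rw [(show Commute t u from hgc.symm).mul_pow, pow_two, pow_two, ht1, hu1, one_mul]
  -- an odd normal subgroup is trivial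
  have h2 : 2 ∣ Nat.card N := by
    by_contra h2
    have hodd : Odd (Nat.card N) := Nat.not_even_iff_odd.1 fun h => h2 (even_iff_two_dvd.1 h)
    obtain ⟨π, hπ⟩ := exists_cover_cent ht hcov
    -- the only element of `N` centralising `t` is the identity
    have hfix : ∀ s : X, orderOf s = 2 → ∀ x ∈ N, s * x = x * s → x = 1 := by
      intro s hs x hx hxs
      obtain ⟨n, rfl⟩ := exists_conj ht hcov hgc hgt hs
      have hxn : n⁻¹ * x * n ∈ N := by simpa using ‹N.Normal›.conj_mem x hx n⁻¹
      have hcomm : n⁻¹ * x * n * t = t * (n⁻¹ * x * n) := by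
        calc n⁻¹ * x * n * t = n⁻¹ * (x * (n * t * n⁻¹)) * n := by group
          _ = n⁻¹ * (n * t * n⁻¹ * x) * n := by rw [hxs]
          _ = t * (n⁻¹ * x * n) := by group
      let y : centralizer ({t} : Set X) := ⟨n⁻¹ * x * n, mem_centralizer_singleton_iff.2 hcomm⟩
      set M := (N.subgroupOf (centralizer ({t} : Set X))).map π with hM
      have : IsSimpleGroup (alternatingGroup (Fin 11)) := alternatingGroup.isSimpleGroup (by simp)
      have : M.Normal := Subgroup.Normal.map inferInstance π hπ.surj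
      have hMb : M = ⊥ := by
        refine (Subgroup.Normal.eq_bot_or_eq_top (inferInstance : M.Normal)).resolve_right fun h => ?_
        have h3 := card_map_dvd (f := π) (N.subgroupOf (centralizer ({t} : Set X)))
        rw [← hM, h, card_top] at h3
        have h4 : Nat.card (N.subgroupOf (centralizer ({t} : Set X))) ∣ Nat.card N := by
          rw [← card_map_of_injective (f := (centralizer ({t} : Set X)).subtype) (subtype_injective _)]
          exact card_dvd_of_le (map_le_iff_le_comap.2 le_rfl)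
        have h5 : 2 ∣ Nat.card (alternatingGroup (Fin 11)) := by
          rw [nat_card_alternatingGroup, Nat.card_fin]
          decide
        exact h2 ((h5.trans h3).trans h4)
      have h1 : π y = 1 := mem_bot.1 (hMb ▸ mem_map_of_mem π (show y ∈ N.subgroupOf _ from hxn))
      rcases (hπ.ker _).1 h1 with h | h
      · have h' : n⁻¹ * x * n = 1 := congrArg Subtype.val h
        calc x = n * (n⁻¹ * x * n) * n⁻¹ := by group
          _ = 1 := by rw [h']; group
      · have h' : n⁻¹ * x * n = t := congrArg Subtype.val h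
        rw [h'] at hxn
        exact absurd (orderOf_dvd_natCard (⟨t, hxn⟩ : N)) (by rw [Subgroup.orderOf_mk, ht]; exact h2)
    -- involutions invert it
    have hinv : ∀ s : X, orderOf s = 2 → ∀ x ∈ N, s * x * s⁻¹ = x⁻¹ := by
      intro s hs x hx
      have hss : s * s = 1 := by rw [← pow_two, ← hs, pow_orderOf_eq_one]
      let θ : N →* N := ((MulAut.conjNormal s : MulAut N)).toMonoidHom
      have hinvol : Function.Involutive θ := fun y => Subtype.ext (by
        show s * (s * (y : X) * s⁻¹) * s⁻¹ = y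
        rw [show s * (s * (y : X) * s⁻¹) * s⁻¹ = (s * s) * y * (s * s)⁻¹ by group, hss]; group)
      have hfree : MonoidHom.FixedPointFree θ := fun y hy => Subtype.ext (by
        have h : s * (y : X) * s⁻¹ = y := congrArg Subtype.val hy
        exact hfix s hs y y.2 (mul_inv_eq_iff_eq_mul.1 h))
      exact congrArg Subtype.val (congrFun (hfree.coe_eq_inv_of_involutive hinvol) ⟨x, hx⟩)
    refine hN ((eq_bot_iff_forall N).2 fun x hx => ?_)
    have h1 := hinv _ htu2 x hx
    rw [show t * u * x * (t * u)⁻¹ = t * (u * x * u⁻¹) * t⁻¹ by group, hinv u hu2 x hx,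
      hinv t ht x⁻¹ (inv_mem hx), inv_inv] at h1
    have h2' : x ^ 2 = 1 := by rw [pow_two]; exact mul_eq_one_iff_eq_inv.2 h1
    have h3 : orderOf x ∣ Nat.card N := Subgroup.orderOf_dvd_natCard N hx
    exact orderOf_eq_one_iff.1 (Nat.Coprime.eq_one_of_dvd
      ((Nat.coprime_two_right.2 hodd).symm.coprime_dvd_right h3).symm (orderOf_dvd_of_pow_eq_one h2'))
  obtain ⟨s, hs⟩ := exists_prime_orderOf_dvd_card' 2 h2
  have hs' : orderOf (s : X) = 2 := (Subgroup.orderOf_coe s).trans hs
  obtain ⟨n, hn⟩ := exists_conj ht hcov hgc hgt hs'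
  have htN : t ∈ N := by
    have : n⁻¹ * (s : X) * n⁻¹⁻¹ ∈ N := ‹N.Normal›.conj_mem _ s.2 n⁻¹
    rwa [← hn, show n⁻¹ * (n * t * n⁻¹) * n⁻¹⁻¹ = t by group] at this
  have huN : u ∈ N := ‹N.Normal›.conj_mem _ htN g
  have hle := cent_le ht hcov hu2 hgc hgt htN huN
  -- `t` has another commuting conjugate inside `N`
  obtain ⟨c, hcu, hc⟩ : ∃ c, c * u * c⁻¹ = t * u ∧ c * t = t * c := by
    obtain ⟨c, hct, hc⟩ := invol_conj_cent ht hcov hgc
      (show t * u * t = t * (t * u) by rw [mul_assoc, hgc]) hu2 htu2 hgt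
      (fun h => by rw [mul_eq_left.1 h, orderOf_one] at hu2; omega)
    exact ⟨c, hc, hct⟩
  have hkN : g⁻¹ * c * g ∈ N := by
    simpa using ‹N.Normal›.conj_mem c (hle (mem_centralizer_singleton_iff.2 hc)) g⁻¹
  have hk : g⁻¹ * c * g * t * (g⁻¹ * c * g)⁻¹ = g⁻¹ * (t * u) * g := by
    rw [← hcu, hu]; group
  have hkc : g⁻¹ * c * g * t * (g⁻¹ * c * g)⁻¹ * t = t * (g⁻¹ * c * g * t * (g⁻¹ * c * g)⁻¹) := by
    have htuu : Commute (t * u) u := (show Commute t u from hgc.symm).mul_left (Commute.refl u)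
    have h := htuu.map (MulAut.conj g⁻¹).toMonoidHom
    simp only [MulEquiv.coe_toMonoidHom, MulAut.conj_apply, inv_inv,
      show g⁻¹ * u * g = t by rw [hu]; group] at h
    rw [hk]
    exact h.eq
  have hkt : g⁻¹ * c * g * t * (g⁻¹ * c * g)⁻¹ ≠ t := by
    rw [hk]
    intro h
    have : t * u = u := by
      calc t * u = g * (g⁻¹ * (t * u) * g) * g⁻¹ := by group
        _ = u := by rw [h]
    rw [mul_eq_right.1 this, orderOf_one] at ht
    omega
  refine eq_top_iff.2 fun x _ => ?_
  obtain ⟨m, hm, hmx⟩ := conj_in_normal ht hcov hle hkN hkc hkt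
    ((MulEquiv.orderOf_eq (MulAut.conj x) t).trans ht) (‹N.Normal›.conj_mem t htN x)
  have : m⁻¹ * x ∈ centralizer ({t} : Set X) := by
    rw [mem_centralizer_singleton_iff]
    calc m⁻¹ * x * t = m⁻¹ * (x * t * x⁻¹) * x := by group
      _ = m⁻¹ * (m * t * m⁻¹) * x := by rw [hmx]; rfl
      _ = t * (m⁻¹ * x) := by group
  simpa [mul_inv_cancel_left] using mul_mem hm (hle this)

/-- The group is simple. -/
theorem isSimpleGroup : IsSimpleGroup X := by
  have : Nontrivial X := ⟨⟨t, 1, fun h => by rw [h, orderOf_one] at ht; omega⟩⟩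
  exact ⟨fun N hN => or_iff_not_imp_left.2 fun h => normal_eq_top ht hcov hgc hgt h⟩

end CfsgLib.LyStd
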