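import Cfsg.Agent.Lib.LyType.Endgame.Final
import Cfsg.Agent.Lib.LyStd.Simple

/-!
# No strongly embedded subgroup has the Lyons group modulo an odd normal subgroup

The intersection with a conjugate by an outside involution is an odd group transitive on the involutions, so its
image in the Lyons group would be an odd subgroup of order divisible by 2479.
-/

set_option autoImplicit false

namespace CfsgLib.LyStd

open Subgroup CfsgLib.LyIndex CfsgLib.LyType

theorem ly_false {G : Type*} [Group G] [Finite G] {M : Subgroup G} (hM : Cfsg.IsStronglyEmbedded M) {t : M}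
    (ht : orderOf t = 2) (N : Subgroup M) [N.Normal] (e : M ⧸ N ≃* Cfsg.Spor.Ly)
    (hC : Nat.card (centralizer ({e (QuotientGroup.mk t)} : Set Cfsg.Spor.Ly)) = 39916800) : False := by
  haveI := ly_finite
  obtain ⟨g, hg⟩ : ∃ g, g ∉ M := by
    by_contra h
    push Not at h
    exact hM.1 (eq_top_iff.2 fun x _ => h x)
  have ht' : orderOf (t : G) = 2 := (orderOf_coe t).trans ht
  set u := g * t * g⁻¹ with hu
  have hu2 : orderOf u = 2 := (Invol.orderOf_conj_eq g t).trans ht'
  have huM : u ∉ M := fun h => by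
    refine Nat.not_even_iff_odd.2 (hM.2.2 g hg) (even_iff_two_dvd.2 ?_)
    rw [← hu2]
    exact Subgroup.orderOf_dvd_natCard _ ⟨h, t, t.2, rfl⟩
  set Du := M ⊓ M.map (MulAut.conj u).toMonoidHom with hDu
  have hodd : Odd (Nat.card Du) := hM.2.2 u huM
  let f : Du →* Cfsg.Spor.Ly := e.toMonoidHom.comp ((QuotientGroup.mk' N).comp (inclusion inf_le_left))
  have hXodd : Odd (Nat.card f.range) := hodd.of_dvd_nat (card_range_dvd f)
  set C := centralizer ({e (QuotientGroup.mk t)} : Set Cfsg.Spor.Ly) with hCdef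
  haveI : MulAction.IsPretransitive f.range (Cfsg.Spor.Ly ⧸ C) := by
    refine (MulAction.isPretransitive_iff_base (QuotientGroup.mk 1 : Cfsg.Spor.Ly ⧸ C)).2 fun q => ?_
    obtain ⟨a, rfl⟩ := QuotientGroup.mk_surjective q
    obtain ⟨m, hm⟩ := QuotientGroup.mk_surjective (e.symm a)
    obtain ⟨d, hd, hdt⟩ := Invol.stronglyEmbedded_transitive hM hu2 huM ht' t.2
      (t := (m : G) * t * (m : G)⁻¹) ((Invol.orderOf_conj_eq _ _).trans ht')
      (M.mul_mem (M.mul_mem m.2 t.2) (M.inv_mem m.2))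
    refine ⟨⟨f ⟨d, hd⟩, ⟨_, rfl⟩⟩, ?_⟩
    show QuotientGroup.mk (f ⟨d, hd⟩ * 1) = QuotientGroup.mk a
    rw [mul_one, QuotientGroup.eq, mem_centralizer_singleton_iff]
    have hdm : Commute (inclusion inf_le_left (⟨d, hd⟩ : Du))⁻¹ (1 : M) := Commute.one_right _
    have hrel : (inclusion inf_le_left (⟨d, hd⟩ : Du))⁻¹ * m * t =
        t * ((inclusion inf_le_left (⟨d, hd⟩ : Du))⁻¹ * m) := Subtype.ext (by
      show d⁻¹ * (m : G) * t = t * (d⁻¹ * m)
      calc d⁻¹ * (m : G) * t = d⁻¹ * ((m : G) * t * (m : G)⁻¹) * m := by group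
        _ = d⁻¹ * (d * t * d⁻¹) * m := by rw [hdt]
        _ = _ := by group)
    have h1 := congrArg (fun y => e (QuotientGroup.mk' N y)) hrel
    simp only [map_mul, map_inv, QuotientGroup.mk'_apply, hm, e.apply_symm_apply] at h1
    exact h1
  have hidx : 1296826875 ∣ Nat.card f.range := by
    have h1 := MulAction.index_stabilizer_of_transitive (G := f.range) (QuotientGroup.mk 1 : Cfsg.Spor.Ly ⧸ C)
    have h2 := C.index_mul_card
    rw [hC, ly_card] at h2
    rw [← Subgroup.index_eq_card, show C.index = 1296826875 by omega] at h1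
    exact h1 ▸ Subgroup.index_dvd_card _
  haveI : Group.IsSolvable f.range := Cfsg.Agent.S0205.result hXodd
  obtain ⟨n, hn⟩ : 2479 ∣ Nat.card f.range := dvd_trans (by norm_num) hidx
  have hcop : Nat.Coprime 2479 n := by
    have h1 : Nat.card f.range ∣ 2 ^ 8 * 202207730484375 := by
      rw [show (2 : ℕ) ^ 8 * 202207730484375 = Nat.card Cfsg.Spor.Ly by rw [ly_card]; norm_num]
      exact card_subgroup_dvd_card _
    have h2 : Nat.card f.range ∣ 202207730484375 :=
      (Nat.Coprime.pow_right 8 (Nat.coprime_two_right.2 hXodd)).dvd_of_dvd_mul_left h1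
    rw [hn, show (202207730484375 : ℕ) = 2479 * 81568265625 by norm_num] at h2
    exact Nat.Coprime.coprime_dvd_right (Nat.dvd_of_mul_dvd_mul_left (by norm_num) h2) (by norm_num)
  obtain ⟨H, hH⟩ := CfsgLib.Solvable.exists_hall hn hcop
  obtain ⟨x, y, hx, hy, hxy⟩ := exists_commuting hH
  refine ly_not_commute (x := ((x : f.range) : Cfsg.Spor.Ly)) (y := ((y : f.range) : Cfsg.Spor.Ly)) ?_ ?_ ?_
  · rw [Subgroup.orderOf_coe, Subgroup.orderOf_coe, hx]
  · rw [Subgroup.orderOf_coe, Subgroup.orderOf_coe, hy]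
  · exact (hxy.map H.subtype).map f.range.subtype

end CfsgLib.LyStd
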