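import Cfsg.Agent.Lib.StdCover.Setup
import Cfsg.Agent.Lib.LyType.OneClass

/-!
# The two hypotheses of the standard-cover machinery in degree eleven
-/

set_option autoImplicit false
set_option maxRecDepth 100000

namespace CfsgLib.LyStd

open Equiv Equiv.Perm CfsgLib.StdCover

theorem witP_of_data {r : Perm (Fin 11)} (a d : Perm (Fin 11)) (p q u v : Fin 11)
    (hd : d = swap p q * swap u v) (hne : p ≠ q ∧ u ≠ v ∧ p ≠ u ∧ p ≠ v ∧ q ≠ u ∧ q ≠ v)
    (h : a ^ 3 = 1 ∧ (a⁻¹ * d) ^ 3 = 1 ∧ a * r = r * a ∧ a⁻¹ * d * r = r * (a⁻¹ * d) ∧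
      a * d * a⁻¹ = d * (a⁻¹ * d * a)) : WitP r := by
  obtain ⟨h1, h2, h3, h4, h5⟩ := h
  refine ⟨a, a⁻¹ * d, h1, h2, h3, h4, ?_, ?_⟩
  · rw [mul_inv_cancel_left, hd, LyFusion.swap_pair_cycleType hne.1 hne.2.1 hne.2.2.1 hne.2.2.2.1
      hne.2.2.2.2.1 hne.2.2.2.2.2]
    rfl
  · rw [mul_inv_cancel_left]; exact h5

/-- The products of the first transpositions. -/
def rep : Fin 6 → Perm (Fin 11)
  | 0 => 1
  | 1 => swap 0 1
  | 2 => swap 0 1 * swap 2 3
  | 3 => swap 0 1 * swap 2 3 * swap 4 5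
  | 4 => swap 0 1 * swap 2 3 * swap 4 5 * swap 6 7
  | 5 => swap 0 1 * swap 2 3 * swap 4 5 * swap 6 7 * swap 8 9

theorem rep_type : ∀ m : Fin 6, (rep m).cycleType = AltCover.R m.val := by
  decide +kernel

theorem witP_rep (m : Fin 6) : WitP (rep m) := by
  fin_cases m
  iterate 4
    exact witP_of_data (swap 7 8 * swap 8 9) (swap 7 8 * swap 9 10) 7 8 9 10 rfl (by decide) (by decide +kernel)
  iterate 2
    exact witP_of_data (swap 0 2 * swap 2 4 * (swap 1 3 * swap 3 5)) (swap 0 1 * swap 2 3) 0 1 2 3 rfl (by decide)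
      (by decide +kernel)

/-- Every involutory permutation has witnesses. -/
theorem wit {r : Perm (Fin 11)} (h : r * r = 1) : WitP r := by
  refine witP_of_reps (reps := List.ofFn rep) ?_ ?_ h
  · intro x hx
    obtain ⟨m, rfl⟩ := List.mem_ofFn.1 hx
    exact witP_rep m
  · intro m hm
    exact ⟨rep ⟨m, by omega⟩, List.mem_ofFn.2 ⟨_, rfl⟩, rep_type ⟨m, by omega⟩⟩

/-- The involution of reference. -/
def quad : alternatingGroup (Fin 11) := LyFusion.dblA * LyFusion.dblB

/-- An element permuting two fixed points of `quad`. -/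
def flipW : alternatingGroup (Fin 11) :=
  ⟨swap 0 2 * swap 1 3, Equiv.Perm.mem_alternatingGroup.2 (by decide)⟩

theorem quad_type : (quad : Perm (Fin 11)).cycleType = {2, 2, 2, 2} := by decide +kernel

theorem dbl_types : (LyFusion.dblA : Perm (Fin 11)).cycleType = AltCover.R 2 ∧
    (LyFusion.dblB : Perm (Fin 11)).cycleType = AltCover.R 2 ∧
    (LyFusion.dblS : Perm (Fin 11)).cycleType = AltCover.R 2 ∧ (flipW : Perm (Fin 11)).cycleType = AltCover.R 2 ∧
    ((LyFusion.dblA * LyFusion.dblS : alternatingGroup (Fin 11)) : Perm (Fin 11)).cycleType = AltCover.R 2 ∧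
    ((LyFusion.dblA * flipW : alternatingGroup (Fin 11)) : Perm (Fin 11)).cycleType = AltCover.R 2 ∧
    ((LyFusion.dblB * LyFusion.dblS : alternatingGroup (Fin 11)) : Perm (Fin 11)).cycleType = {2, 2, 2, 2} ∧
    ((LyFusion.dblB * flipW : alternatingGroup (Fin 11)) : Perm (Fin 11)).cycleType = {2, 2, 2, 2} := by
  decide +kernel

theorem flip_facts : ((LyFusion.dblS * flipW : alternatingGroup (Fin 11)) : Perm (Fin 11)) ^ (2 ^ 3) = 1 ∧
    ((LyFusion.dblS * flipW : alternatingGroup (Fin 11)) : Perm (Fin 11)) 8 = 9 ∧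
    ((LyFusion.dblS * flipW : alternatingGroup (Fin 11)) : Perm (Fin 11)) 9 = 8 ∧
    ((LyFusion.dblS * flipW : alternatingGroup (Fin 11)) : Perm (Fin 11)) 10 = 10 ∧
    ∀ p : Fin 11, p ≠ 8 → p ≠ 9 → p ≠ 10 → (quad : Perm (Fin 11)) p ≠ p := by
  decide +kernel

/-- A permutation fixing the first eight points and commuting with the flip has square one. -/
theorem sq_one_of_commute {h : Perm (Fin 11)} (hfix : ∀ p : Fin 11, p ≠ 8 → p ≠ 9 → p ≠ 10 → h p = p)
    (hc : ∀ p, h (((LyFusion.dblS * flipW : alternatingGroup (Fin 11)) : Perm (Fin 11)) p) =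
      ((LyFusion.dblS * flipW : alternatingGroup (Fin 11)) : Perm (Fin 11)) (h p)) : h * h = 1 := by
  obtain ⟨-, f8, f9, f10, -⟩ := flip_facts
  have hset : ∀ p : Fin 11, p = 8 ∨ p = 9 ∨ p = 10 → h p = 8 ∨ h p = 9 ∨ h p = 10 := fun p hp => by
    by_contra hne
    simp only [not_or] at hne
    have e := h.injective (hfix (h p) hne.1 hne.2.1 hne.2.2)
    rw [e] at hne
    omega
  have h10 : h 10 = 10 := by
    have e := hc 10
    rw [f10] at e
    rcases hset 10 (.inr (.inr rfl)) with a | a | a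
    · rw [a, f8] at e; exact absurd e (by decide)
    · rw [a, f9] at e; exact absurd e (by decide)
    · exact a
  have e8 := hc 8
  rw [f8] at e8
  ext p : 1
  rw [Perm.mul_apply, Perm.one_apply]
  rcases hset 8 (.inl rfl) with a | a | a
  · rw [a, f8] at e8
    by_cases h1 : p = 8
    · rw [h1, a, a]
    by_cases h2 : p = 9
    · rw [h2, e8, e8]
    by_cases h3 : p = 10
    · rw [h3, h10, h10]
    rw [hfix p h1 h2 h3, hfix p h1 h2 h3]
  · rw [a, f9] at e8
    by_cases h1 : p = 8
    · rw [h1, a, e8]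
    by_cases h2 : p = 9
    · rw [h2, e8, a]
    by_cases h3 : p = 10
    · rw [h3, h10, h10]
    rw [hfix p h1 h2 h3, hfix p h1 h2 h3]
  · exact absurd (h.injective (a.trans h10.symm)) (by decide)

variable {C : Type*} [Group C] {π : C →* alternatingGroup (Fin 11)} {z : C}

theorem quad_sq (H : AltCover.Cover π z) {x y : C} (hx : (π x : Perm (Fin 11)).cycleType = {2, 2, 2, 2})
    (hy : (π y : Perm (Fin 11)).cycleType = {2, 2, 2, 2}) (hxx : x * x = 1) : y * y = 1 := by
  obtain ⟨c, hc⟩ := LyType.conj_alt hx hy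
  obtain ⟨c, rfl⟩ := H.surj c
  rw [H.sq_eq_of_conj (c := c) (y := x) hc.symm, hxx, mul_one, mul_inv_cancel]

/-- Lifts of two double transpositions with product of square one commute. -/
theorem comm_dt (H : AltCover.Cover π z) {P Q : C} (hP : P * P = z) (hQ : Q * Q = z) (hPQ : P * Q * (P * Q) = 1) :
    Q * P = P * Q := by
  calc Q * P = P⁻¹ * (P * Q * (P * Q)) * Q⁻¹ := by group
    _ = P⁻¹ * (z * z) * Q⁻¹ := by rw [hPQ, H.sq_z]
    _ = P⁻¹ * (P * P * z) * Q⁻¹ := by rw [hP]
    _ = P * (Q * Q) * Q⁻¹ := by rw [hQ]; group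
    _ = P * Q := by group

/-- Lifts of two double transpositions with product of square `z` anticommute. -/
theorem anti_dt (H : AltCover.Cover π z) {P Q : C} (hP : P * P = z) (hQ : Q * Q = z) (hPQ : P * Q * (P * Q) = z) :
    Q * P = z * (P * Q) := by
  have hP' : P⁻¹ = z * P := inv_eq_of_mul_eq_one_right (by
    rw [← mul_assoc, H.central P, mul_assoc, hP, H.sq_z])
  have hQ' : Q⁻¹ = Q * z := inv_eq_of_mul_eq_one_right (by rw [← mul_assoc, hQ, H.sq_z])
  calc Q * P = P⁻¹ * (P * Q * (P * Q)) * Q⁻¹ := by group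
    _ = z * P * z * (Q * z) := by rw [hPQ, hP', hQ']
    _ = z * (P * Q) * (z * z) := by
      rw [mul_assoc (z * P), ← mul_assoc z Q, ← H.central Q]; group
    _ = z * (P * Q) := by rw [H.sq_z, mul_one]

theorem noOdd {G : Type*} [Group G] {L : Subgroup G} {π : L →* alternatingGroup (Fin 11)} {z : L}
    (H : AltCover.Cover π z) : NoOdd π z := by
  intro x h hxx hx1 hxz hhx hho hfix hy
  have hne : (π x : Perm (Fin 11)).cycleType = {2, 2, 2, 2} :=
    CoverType.cycleType_invol H (by norm_num) le_rfl hxx hx1 hxz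
  obtain ⟨c, hc⟩ := LyType.conj_alt hne quad_type
  obtain ⟨c, rfl⟩ := H.surj c
  -- lifts
  obtain ⟨A, hA⟩ := H.surj LyFusion.dblA
  obtain ⟨B, hB⟩ := H.surj LyFusion.dblB
  obtain ⟨S, hS⟩ := H.surj LyFusion.dblS
  obtain ⟨W, hW⟩ := H.surj flipW
  obtain ⟨tA, tB, tS, tW, tAS, tAW, tBS, tBW⟩ := dbl_types
  have hsqA := H.dt_sq (by norm_num) (x := A) (by rw [hA]; exact tA)
  have hsqB := H.dt_sq (by norm_num) (x := B) (by rw [hB]; exact tB)
  have hsqS := H.dt_sq (by norm_num) (x := S) (by rw [hS]; exact tS)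
  have hsqW := H.dt_sq (by norm_num) (x := W) (by rw [hW]; exact tW)
  have hAS := anti_dt H hsqA hsqS (H.dt_sq (by norm_num) (by rw [map_mul, hA, hS]; exact tAS))
  have hAW := anti_dt H hsqA hsqW (H.dt_sq (by norm_num) (by rw [map_mul, hA, hW]; exact tAW))
  have hBS := comm_dt H hsqB hsqS (quad_sq H hne (by rw [map_mul, hB, hS]; exact tBS) hxx)
  have hBW := comm_dt H hsqB hsqW (quad_sq H hne (by rw [map_mul, hB, hW]; exact tBW) hxx)
  have hAB : Commute (S * W) (A * B) := by
    show S * W * (A * B) = A * B * (S * W)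
    calc S * W * (A * B) = S * (W * A) * B := by group
      _ = S * (z * (A * W)) * B := by rw [hAW]
      _ = S * z * A * (W * B) := by group
      _ = z * (S * A) * (B * W) := by rw [H.central S, ← hBW]; group
      _ = z * z * A * (S * B) * W := by rw [hAS]; group
      _ = A * (B * S) * W := by rw [H.sq_z, ← hBS]; group
      _ = A * B * (S * W) := by group
  -- the transported flip
  set y := c⁻¹ * (S * W) * c with hydef
  have hcx : c * x * c⁻¹ = A * B ∨ c * x * c⁻¹ = z * (A * B) := H.eq_or (by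
    rw [map_mul, map_mul, map_inv, map_mul, hA, hB, hc]; rfl)
  have hyx : Commute y x := by
    have h1 : Commute (S * W) (c * x * c⁻¹) := by
      rcases hcx with e | e <;> rw [e]
      · exact hAB
      · exact Commute.mul_right (H.central (S * W)) hAB
    have h2 := h1.map (MulAut.conj c⁻¹).toMonoidHom
    simp only [MulEquiv.coe_toMonoidHom, MulAut.conj_apply, inv_inv,
      show c⁻¹ * (c * x * c⁻¹) * c = x by group] at h2
    exact h2
  obtain ⟨f8, -, -, -, fq⟩ := flip_facts
  have hy2 : ∃ m, y ^ 2 ^ m = 1 := by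
    refine ⟨4, ?_⟩
    have h1 : π ((S * W) ^ 2 ^ 3) = 1 := by
      rw [map_pow, map_mul, hS, hW]; exact Subtype.ext f8
    have h2 : (S * W) ^ 2 ^ 4 = 1 := by
      rw [pow_succ, pow_mul]
      rcases (H.ker _).1 h1 with e | e <;> rw [e, pow_two]
      · rw [one_mul]
      · exact H.sq_z
    have h3 := conj_pow (a := c⁻¹) (b := S * W) (i := 2 ^ 4)
    rw [inv_inv] at h3
    rw [hydef, h3, h2]; group
  have hcom : Commute (c * h * c⁻¹) (S * W) := by
    have h1 := (hy y hyx hy2).map (MulAut.conj c).toMonoidHom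
    simp only [MulEquiv.coe_toMonoidHom, MulAut.conj_apply, hydef,
      show c * (c⁻¹ * (S * W) * c) * c⁻¹ = S * W by group] at h1
    exact h1
  have hcperm : ((π c : Perm (Fin 11))) * (π x : Perm (Fin 11)) * ((π c : Perm (Fin 11)))⁻¹ = (quad : Perm (Fin 11)) :=
    congrArg Subtype.val hc
  have hsq : perm π (c * h * c⁻¹) * perm π (c * h * c⁻¹) = 1 := by
    refine sq_one_of_commute (fun p h1 h2 h3 => ?_) fun p => ?_
    · have hp : perm π x ((π c : Perm (Fin 11))⁻¹ p) ≠ (π c : Perm (Fin 11))⁻¹ p := by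
        intro e
        refine fq p h1 h2 h3 ?_
        rw [← hcperm, Perm.mul_apply, Perm.mul_apply]
        rw [perm_apply] at e
        rw [e]
        exact (π c : Perm (Fin 11)).apply_symm_apply p
      rw [map_mul, map_mul, map_inv, Perm.mul_apply, Perm.mul_apply]
      simp only [perm_apply] at hp ⊢
      rw [show (π h : Perm (Fin 11)) ((π c : Perm (Fin 11))⁻¹ p) = (π c : Perm (Fin 11))⁻¹ p from hfix _ hp]
      exact (π c : Perm (Fin 11)).apply_symm_apply p
    · have e := congrArg (perm π) hcom.eq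
      simp only [map_mul] at e
      have e' := DFunLike.congr_fun e p
      simpa only [Perm.mul_apply, perm_apply, map_mul, hS, hW, Subgroup.coe_mul] using e'
  have h2 : perm π (h * h) = 1 := by
    have e : perm π (c * h * c⁻¹) * perm π (c * h * c⁻¹) = perm π c * perm π (h * h) * (perm π c)⁻¹ := by
      rw [← map_inv, ← map_mul, ← map_mul, ← map_mul]; exact congrArg _ (by group)
    rw [hsq] at e
    rw [← mul_left_cancel_iff (a := perm π c), mul_one]
    exact (mul_inv_eq_one.1 e.symm)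
  obtain ⟨k, hk⟩ := hho
  have hh : h = (h * h) ^ (k + 1) := by
    rw [← pow_two, ← pow_mul, show 2 * (k + 1) = orderOf h + 1 by omega, pow_succ, pow_orderOf_eq_one, one_mul]
  have hker : π (h * h) = 1 := Subtype.ext h2
  rcases (H.ker _).1 hker with e | e
  · rw [hh, e, one_pow]
  · exfalso
    have h4 : h ^ 4 = 1 := by rw [show h ^ 4 = h * h * (h * h) by simp only [pow_succ, pow_zero, one_mul, mul_assoc], e, H.sq_z]
    have h5 : orderOf h = 1 := Nat.Coprime.eq_one_of_dvd
      ((Nat.Coprime.pow_right 2 (Nat.coprime_two_right.2 ⟨k, hk⟩))) (orderOf_dvd_of_pow_eq_one h4)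
    rw [orderOf_eq_one_iff] at h5
    rw [h5, one_mul] at e
    exact H.zne e.symm

end CfsgLib.LyStd
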